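import Groth.Agent.AbSch.K630.Dvr
import Groth.Agent.AbSch.K630.Special
import Groth.Agent.AbSch.K630.Fpqc
import Groth.Agent.AbSch.K595.Chart

/-!
# `n`-splittings over a discrete valuation ring from the closed point

* `K324.NsDvr.ns_dvr`: `R` a discrete valuation ring, `D` an extension of `𝔾_m` by the abelian scheme `A`; an
  `n`-splitting over the closed point gives an `n`-splitting over `R` (given restriction of extensions along morphisms
  of base schemes, `Hres`, and the existence of splittings over algebraically closed fields, `H1`).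
-/

set_option autoImplicit false
universe u
open CategoryTheory CategoryTheory.Limits MonoidalCategory CartesianMonoidalCategory MonObj AlgebraicGeometry Opposite

noncomputable section

namespace K324.NsDvr

open Groth.Agent.Etdl.H432.Sec K452.HomPts K771.HomEv K630.AbExt

theorem ns_dvr
    (Hres : ∀ {S S' : Scheme.{u}} (f : S' ⟶ S) {A : Over S} [GrpObj A] [IsCommMonObj A] (D : Dat (Red.Gm S) A),
      ∃ D' : Dat (Red.Gm S') (Red.bc f A), ∀ (n : ℕ) (W : Over S'), D'.NS n W ↔ D.NS n ((Over.map f).obj W))
    (H1 : ∀ (k : Type u) [Field k] [IsAlgClosed k] (A : Over (Spec (CommRingCat.of k))) [GrpObj A]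
      [IsCommMonObj A] [Smooth A.hom] [IsProper A.hom] [GeometricallyConnected A.hom]
      (D : Dat (Red.Gm (Spec (CommRingCat.of k))) A), ∃ n, 0 < n ∧ D.NS n (𝟙_ (Over (Spec (CommRingCat.of k)))))
    (R : Type u) [CommRing R] [IsDomain R] [IsDiscreteValuationRing R] (A : Over (Spec (CommRingCat.of R))) [GrpObj A]
    [IsCommMonObj A] [Smooth A.hom] [IsProper A.hom] [GeometricallyConnected A.hom]
    (D : Dat (Red.Gm (Spec (CommRingCat.of R))) A) {n : ℕ} (h : D.NS n (spc R)) :
    D.NS n (𝟙_ (Over (Spec (CommRingCat.of R)))) := by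
  let Ka := AlgebraicClosure (FractionRing R)
  let f : Spec (CommRingCat.of Ka) ⟶ Spec (CommRingCat.of R) := Spec.map (CommRingCat.ofHom (algebraMap R Ka))
  obtain ⟨D', hD'⟩ := Hres f D
  have hA1 : Smooth (Red.bc f A).hom := inferInstanceAs (Smooth (pullback.snd A.hom f))
  have hA2 : IsProper (Red.bc f A).hom := inferInstanceAs (IsProper (pullback.snd A.hom f))
  have hA3 : GeometricallyConnected (Red.bc f A).hom :=
    inferInstanceAs (GeometricallyConnected (pullback.snd A.hom f))
  obtain ⟨d, hd, h1⟩ := H1 Ka (Red.bc f A) D'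
  have h2 : D.NS d ((Over.map f).obj (𝟙_ _)) := (hD' d _).mp h1
  -- down to the generic point
  have hT : Red.IsTorus (Red.Gm (Spec (CommRingCat.of R))) := Groth.Agent.Sga3B.BorSpan613.isTorus_Gm _
  have hGs : Smooth (Red.Gm (Spec (CommRingCat.of R))).hom := Groth.Agent.Sga3B.TorusAlgClosed.smooth_of_isTorus hT
  have hGaff : IsAffineHom (Red.Gm (Spec (CommRingCat.of R))).hom :=
    Groth.Agent.Sga3B.TorusAlgClosed.isAffineHom_of_isTorus hT
  have hGc : CompactSpace (Red.Gm (Spec (CommRingCat.of R))).left := by
    have : IsAffine (Red.Gm (Spec (CommRingCat.of R))).left :=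
      isAffine_of_isAffineHom (Red.Gm (Spec (CommRingCat.of R))).hom
    infer_instance
  obtain ⟨X, p, e, -, hp1, hp2, he⟩ := K595.Chart.exists_chart D
  let κ : Spec (CommRingCat.of Ka) ⟶ Spec (CommRingCat.of (FractionRing R)) :=
    Spec.map (CommRingCat.ofHom (algebraMap (FractionRing R) Ka))
  let k : (Over.map f).obj (𝟙_ _) ⟶ gen R := Over.homMk κ (by
    change κ ≫ Spec.map _ = 𝟙 _ ≫ f
    rw [Category.id_comp, ← Spec.map_comp, ← CommRingCat.ofHom_comp, ← IsScalarTower.algebraMap_eq])
  have hk1 : Flat k.left := by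
    change Flat κ
    infer_instance
  have hk2 : Surjective k.left := by
    change Surjective κ
    infer_instance
  have hk3 : QuasiCompact k.left := by
    change QuasiCompact κ
    infer_instance
  have h3 : D.NS d (gen R) := Dat.ns_of_fpqc hT p e he k h2
  have h4 : D.NS d (𝟙_ _) := D.ns_of_generic p e he h3
  exact D.ns_of_special hd (h4.mul n) h

end K324.NsDvr
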